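import Cfsg.Agent.Cit.Nil.AN.Two
import Cfsg.Agent.Cit.Nil.CompR.Frame

/-!
# S1309 (6b), (n6): `AN(s)`, `s ∈ T_S`, any `r`: the world of points

`XW Z K` : the part of helper117's `AN.BW` which holds for the points of a world with any `r` (`K z = R_z`);
`XW.of_gw` : from helper386's `CompR.GW`. The lemmas are those of `AN/Base.lean` and `AN/Cls.lean` (helper117).
-/

set_option autoImplicit false
set_option linter.unusedSectionVars false
set_option linter.style.haveILetI false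

namespace Cfsg.Agent.Cit.Nil.ANTwo

open Subgroup Cfsg.Agent.Cit Cfsg.Agent.StdEven.Syl Cfsg.Agent.OddOrderLocal.NilParts
open Cfsg.Agent.Cit.Nil.AN (Cm Ce OmZ T0 TS Om St Cl Gp OneC cl_refl cl_sub cl_step cl_cm cl_symm cl_trans cl_eq le_Gp
  Gp_le Gp_ce M0 isSyl_cj isPGroup_zpowers_inv self_mem_oP)

variable {G : Type*} [Group G]

/-- the world of points -/
structure XW (Z : Set G) (K : G → Subgroup G) : Prop where
  sq : ∀ z ∈ Z, z * z = 1
  ne : ∀ z ∈ Z, z ≠ 1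
  mem : ∀ z ∈ Z, z ∈ K z
  two' : ∀ z ∈ Z, IsPGroup 2 (K z)
  cent' : ∀ z ∈ Z, Ce z (K z)
  nab' : ∀ z ∈ Z, ¬ Cm (K z) (K z)
  conjZ : ∀ z ∈ Z, ∀ g : G, g * z * g⁻¹ ∈ Z
  conjK : ∀ z ∈ Z, ∀ g : G, K (g * z * g⁻¹) = cj g (K z)
  csymm : ∀ z ∈ Z, ∀ u ∈ Z, Ce u (K z) → z ≠ u → Cm (K z) (K u)
  com : ∀ z ∈ Z, ∀ u ∈ Z, z ≠ u → ∀ P : Subgroup G, IsPGroup 2 P → K z ≤ P → K u ≤ P → Cm (K z) (K u)

theorem XW.of_gw {Z : Set G} {K : G → Subgroup G} (h : CompR.GW Z K) : XW Z K where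
  sq := h.sq
  ne := h.ne
  mem := h.mem
  two' := fun _ hz => h.two hz
  cent' := fun _ hz _ hk => (h.cent hz hk).symm
  nab' := fun _ hz => h.nab hz
  conjZ := h.conjZ
  conjK := h.conjK
  csymm := fun _ hz _ hu hc hne => (h.csymm hz hu hne hc).2
  com := fun _ hz _ hu hne P hP h1 h2 => (h.com P hP hz hu h1 h2 hne).2

namespace XW

variable {Z : Set G} {K : G → Subgroup G} (w : XW Z K)

include w

theorem inv {z : G} (hz : z ∈ Z) : z⁻¹ = z := inv_eq_of_mul_eq_one_right (w.sq z hz)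

theorem ce_self {z : G} (hz : z ∈ Z) : Ce z (K z) := w.cent' z hz

theorem K_le {z : G} (hz : z ∈ Z) : K z ≤ centralizer {z} := fun k hk =>
  mem_centralizer_singleton_iff.2 (w.ce_self hz k hk).symm

theorem K_nor {z g : G} (hz : z ∈ Z) (hg : g * z = z * g) : cj g (K z) = K z := by
  have h1 := w.conjK z hz g
  have h2 : g * z * g⁻¹ = z := by rw [hg]; group
  rw [h2] at h1
  exact h1.symm

theorem two {z : G} (hz : z ∈ Z) : IsPGroup 2 (K z) := w.two' z hz

/-- a member is not commutative -/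
theorem not_cm_self {z : G} (hz : z ∈ Z) : ¬ Cm (K z) (K z) := w.nab' z hz

theorem ne_of_cm {z u : G} (hz : z ∈ Z) (h : Cm (K z) (K u)) : z ≠ u := by
  rintro rfl
  exact w.not_cm_self hz h

theorem cm_conj {z u : G} (hz : z ∈ Z) (hu : u ∈ Z) (g : G) (h : Cm (K z) (K u)) :
    Cm (K (g * z * g⁻¹)) (K (g * u * g⁻¹)) := by
  rw [w.conjK z hz, w.conjK u hu]
  exact h.cj g

theorem cm_conj_iff {z u : G} (hz : z ∈ Z) (hu : u ∈ Z) (g : G) :
    Cm (K (g * z * g⁻¹)) (K (g * u * g⁻¹)) ↔ Cm (K z) (K u) := by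
  refine ⟨fun h => ?_, w.cm_conj hz hu g⟩
  have h1 := w.cm_conj (w.conjZ z hz g) (w.conjZ u hu g) g⁻¹ h
  have e : ∀ x : G, g⁻¹ * (g * x * g⁻¹) * g⁻¹⁻¹ = x := fun x => by group
  rwa [e, e] at h1

theorem cm_iff {z u : G} (hz : z ∈ Z) (hu : u ∈ Z) (hne : z ≠ u) : Cm (K z) (K u) ↔ Ce u (K z) :=
  ⟨fun h k hk => (h k hk u (w.mem u hu)).symm, fun h => w.csymm z hz u hu h hne⟩

theorem comm_of_cm {z u : G} (hz : z ∈ Z) (hu : u ∈ Z) (h : Cm (K z) (K u)) : z * u = u * z :=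
  h z (w.mem z hz) u (w.mem u hu)

/-! ### The members of a Sylow subgroup -/

variable [Finite G] {S : Subgroup G} (hS : IsSyl S ⊤)

theorem om_conj {z : G} (hz : z ∈ OmZ Z K S) (g : G) : g * z * g⁻¹ ∈ OmZ Z K (cj g S) :=
  ⟨w.conjZ z hz.1 g, by rw [w.conjK z hz.1]; exact cj_mono g hz.2⟩

theorem om_cm {z u : G} (hz : z ∈ OmZ Z K S) (hu : u ∈ OmZ Z K S) (hne : z ≠ u) (hS2 : IsPGroup 2 S) :
    Cm (K z) (K u) := w.com z hz.1 u hu.1 hne S hS2 hz.2 hu.2

include hS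

/-- a 2-group containing the members of `S` contains no others -/
theorem om_eq {P : Subgroup G} (hP : IsPGroup 2 P) (h : ∀ z ∈ OmZ Z K S, K z ≤ P) {u : G} (hu : u ∈ Z)
    (huP : K u ≤ P) : u ∈ OmZ Z K S := by
  obtain ⟨n, -, hn⟩ := hS.exists_conj hP le_top
  -- `P ≤ S' = cj n⁻¹ S`
  have hPS : P ≤ cj n⁻¹ S := fun p hp => by
    rw [mem_cj, inv_inv]
    exact hn p hp
  have h1 : OmZ Z K S ⊆ (fun x => n⁻¹ * x * n) '' OmZ Z K S := by
    intro z hz
    have h2 : K z ≤ cj n⁻¹ S := (h z hz).trans hPS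
    refine ⟨n * z * n⁻¹, ⟨w.conjZ z hz.1 n, ?_⟩, by group⟩
    rw [w.conjK z hz.1]
    have := cj_mono n h2
    rwa [cj_cj_inv] at this
  have hfin : (OmZ Z K S).Finite := Set.toFinite _
  have h2 : OmZ Z K S = (fun x => n⁻¹ * x * n) '' OmZ Z K S :=
    Set.eq_of_subset_of_ncard_le h1 (Set.ncard_image_le hfin) (hfin.image _)
  rw [h2]
  refine ⟨n * u * n⁻¹, ⟨w.conjZ u hu n, ?_⟩, by group⟩
  rw [w.conjK u hu]
  have := cj_mono n (huP.trans hPS)
  rwa [cj_cj_inv] at this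

/-- elements of 2-groups containing the members of `S` permute them -/
theorem om_perm {P : Subgroup G} (hP : IsPGroup 2 P) (h : ∀ z ∈ OmZ Z K S, K z ≤ P) {p : G} (hp : p ∈ P) {z : G}
    (hz : z ∈ OmZ Z K S) : p * z * p⁻¹ ∈ OmZ Z K S := by
  apply w.om_eq hS hP h (w.conjZ z hz.1 p)
  rw [w.conjK z hz.1]
  intro x hx
  rw [mem_cj] at hx
  have : x = p * (p⁻¹ * x * p) * p⁻¹ := by group
  rw [this]
  exact mul_mem (mul_mem hp (h z hz hx)) (inv_mem hp)

/-- the product of the members of `S` -/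
theorem exists_D : ∃ D ≤ S, IsPGroup 2 D ∧ (∀ z ∈ OmZ Z K S, K z ≤ D) ∧
    ∀ x : G, (∀ z ∈ OmZ Z K S, Ce x (K z)) → Ce x D := by
  refine ⟨⨆ z : OmZ Z K S, K z, iSup_le fun z => z.2.2, hS.two.to_le (iSup_le fun z => z.2.2),
    fun z hz => le_iSup (fun z : OmZ Z K S => K z) ⟨z, hz⟩, ?_⟩
  intro x hx d hd
  have h1 : (⨆ z : OmZ Z K S, K z) ≤ centralizer {x} := iSup_le fun z k hk =>
    mem_centralizer_singleton_iff.2 (hx z z.2 k hk).symm
  exact (mem_centralizer_singleton_iff.1 (h1 hd)).symm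

/-- a member commuting with the members of `S` is one of them -/
theorem om_of_cm {u : G} (hu : u ∈ Z) (h : ∀ z ∈ OmZ Z K S, z ≠ u → Cm (K z) (K u)) : u ∈ OmZ Z K S := by
  by_contra hno
  obtain ⟨D, -, hD2, hKD, hD⟩ := w.exists_D hS
  have h1 : K u ≤ normalizer (D : Set G) := by
    intro k hk
    apply mem_normalizer_of_conj_le
    intro d hd
    have h2 : Ce k D := hD k (fun z hz k' hk' => (h z hz (fun e => hno (e ▸ hz)) k' hk' k hk).symm)
    have : k * d * k⁻¹ = d := by rw [h2 d hd]; group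
    rw [this]; exact hd
  have h2 : IsPGroup 2 (K u ⊔ D : Subgroup G) := OneBasic.isPGroup_sup_of_normalizes (w.two hu) hD2 h1
  exact hno (w.om_eq hS h2 (fun z hz => (hKD z hz).trans le_sup_right) hu le_sup_left)

theorem TS_ce {t : G} (ht : t ∈ TS Z K S) {z : G} (hz : z ∈ OmZ Z K S) : Ce t (K z) := by
  have h1 : TS Z K S ≤ centralizer (K z : Set G) := by
    unfold TS
    rw [closure_le]
    intro u hu
    rw [SetLike.mem_coe, mem_centralizer_iff]
    intro k hk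
    by_cases hne : z = u
    · subst hne
      exact (w.ce_self hz.1 k hk).symm
    · exact w.om_cm hz hu hne hS.two k hk u (w.mem u hu.1)
  intro k hk
  exact (mem_centralizer_iff.1 (h1 ht) k hk).symm

omit [Finite G] hS in
theorem T0_le : T0 Z K S ≤ TS Z K S := by
  unfold T0 TS
  rw [closure_le]
  rintro _ ⟨z, hz, u, hu, rfl⟩
  exact mul_mem (Subgroup.subset_closure hz) (Subgroup.subset_closure hu)

theorem TS_comm {s t : G} (hs : s ∈ TS Z K S) (ht : t ∈ TS Z K S) : s * t = t * s := by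
  have h1 : TS Z K S ≤ centralizer {t} := by
    conv_lhs => unfold TS
    rw [closure_le]
    intro u hu
    rw [SetLike.mem_coe, mem_centralizer_singleton_iff]
    exact (w.TS_ce hS ht hu u (w.mem u hu.1)).symm
  exact mem_centralizer_singleton_iff.1 (h1 hs)

omit hS in
theorem TS_le_S (hS2 : IsPGroup 2 S) : TS Z K S ≤ S := by
  unfold TS
  rw [closure_le]
  intro u hu
  exact hu.2 (w.mem u hu.1)

theorem TS_sq {s : G} (hs : s ∈ TS Z K S) : s * s = 1 := by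
  have hs' := hs
  unfold TS at hs'
  induction hs' using Subgroup.closure_induction with
  | mem x hx => exact w.sq x hx.1
  | one => rw [one_mul]
  | mul x y hx hy h1 h2 =>
    have h3 := w.TS_comm hS hx hy
    calc x * y * (x * y) = x * (y * x) * y := by group
      _ = x * (x * y) * y := by rw [h3]
      _ = (x * x) * (y * y) := by group
      _ = 1 := by rw [h1 hx, h2 hy, one_mul]
  | inv x hx h1 =>
    calc x⁻¹ * x⁻¹ = (x * x)⁻¹ := by group
      _ = 1 := by rw [h1 hx, inv_one]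

omit [Finite G] hS in
/-- elements permuting the members normalise `T₀` -/
theorem T0_nor {g : G} (hg : ∀ z ∈ OmZ Z K S, g * z * g⁻¹ ∈ OmZ Z K S) {t : G} (ht : t ∈ T0 Z K S) :
    g * t * g⁻¹ ∈ T0 Z K S := by
  have h1 : T0 Z K S ≤ (T0 Z K S).comap (MulAut.conj g).toMonoidHom := by
    conv_lhs => unfold T0
    rw [closure_le]
    rintro _ ⟨z, hz, u, hu, rfl⟩
    show g * (z * u) * g⁻¹ ∈ T0 Z K S
    have : g * (z * u) * g⁻¹ = (g * z * g⁻¹) * (g * u * g⁻¹) := by group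
    rw [this]
    exact Subgroup.subset_closure ⟨_, hg z hz, _, hg u hu, rfl⟩
  exact h1 ht

omit [Finite G] hS in
theorem mul_mem_T0 {z u : G} (hz : z ∈ OmZ Z K S) (hu : u ∈ OmZ Z K S) : z * u ∈ T0 Z K S :=
  Subgroup.subset_closure ⟨z, hz, u, hu, rfl⟩

theorem T0_comm {s t : G} (hs : s ∈ T0 Z K S) (ht : t ∈ T0 Z K S) : s * t = t * s :=
  w.TS_comm hS (w.T0_le hs) (w.T0_le ht)

theorem T0_ce {t : G} (ht : t ∈ T0 Z K S) {z : G} (hz : z ∈ OmZ Z K S) : Ce t (K z) := w.TS_ce hS (w.T0_le ht) hz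

/-- `S` normalises `T₀` -/
theorem S_nor {s : G} (hs : s ∈ S) {z : G} (hz : z ∈ OmZ Z K S) : s * z * s⁻¹ ∈ OmZ Z K S :=
  w.om_perm hS hS.two (fun z hz => hz.2) hs hz


end XW

/-! ### The classes of `C(s)` -/

namespace XW

variable {Z : Set G} {K : G → Subgroup G} (w : XW Z K)

include w

theorem om_conj' {s z c : G} (hc : c * s = s * c) (hz : z ∈ Om Z K s) : c * z * c⁻¹ ∈ Om Z K s := by
  refine ⟨w.conjZ z hz.1 c, ?_⟩
  rw [w.conjK z hz.1]
  have h1 := hz.2.cj c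
  have : c * s * c⁻¹ = s := by rw [hc]; group
  rwa [this] at h1

theorem cl_conj {s z u c : G} (hc : c * s = s * c) (hz : z ∈ Om Z K s) (hu : u ∈ Cl Z K s z) :
    c * u * c⁻¹ ∈ Cl Z K s (c * z * c⁻¹) := by
  have hu' : Relation.ReflTransGen (St Z K s) z u := hu
  clear hu
  induction hu' with
  | refl => exact cl_refl _ _
  | tail h1 h2 ih =>
    apply cl_step ih (w.om_conj' hc h2.1)
    intro h
    exact h2.2 ((w.cm_conj_iff (cl_sub hz h1).1 h2.1.1 c).1 h)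

variable [Finite G]

theorem Gp_conj {A : Set G} (hA : A ⊆ Z) {c : G} (h : ∀ u ∈ A, c * u * c⁻¹ ∈ A) :
    c ∈ normalizer (Gp K A : Set G) := by
  apply mem_normalizer_of_conj_le
  intro x hx
  have h1 : Gp K A ≤ (Gp K A).comap (MulAut.conj c).toMonoidHom := Gp_le fun u hu k hk => by
    show c * k * c⁻¹ ∈ Gp K A
    have h2 : c * k * c⁻¹ ∈ K (c * u * c⁻¹) := by
      rw [w.conjK u (hA hu)]
      exact conj_mem_cj hk
    exact le_Gp (h u hu) h2
  exact h1 hx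

/-- `B = ⟨class⟩` is subnormal in `C(s)`: an element of `O₂(B)` lies in `O₂(C(s))` -/
theorem oP_up {s z : G} (hz : z ∈ Om Z K s) {x : G} (hx : x ∈ oP 2 (Gp K (Cl Z K s z))) :
    x ∈ oP 2 (centralizer {s}) := by
  set B := Gp K (Cl Z K s z) with hB
  set X := Gp K (Om Z K s) with hX
  have hOZ : Om Z K s ⊆ Z := fun u hu => hu.1
  have hBX : B ≤ X := Gp_le fun u hu => le_Gp (cl_sub hz hu)
  have hXC : X ≤ centralizer {s} := Gp_le fun u hu k hk => mem_centralizer_singleton_iff.2 (hu.2 k hk).symm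
  have h1 : X ≤ normalizer (B : Set G) := Gp_le fun u hu k hk => by
    by_cases hc : u ∈ Cl Z K s z
    · exact le_normalizer (le_Gp hc hk)
    · apply mem_normalizer_of_conj_le
      intro b hb
      have h2 : Ce k B := Gp_ce fun v hv l hl => ((cl_cm hv hu hc) l hl k hk).symm
      have : k * b * k⁻¹ = b := by rw [h2 b hb]; group
      rw [this]; exact hb
  have h2 : centralizer {s} ≤ normalizer (X : Set G) := fun c hc =>
    w.Gp_conj hOZ (fun u hu => w.om_conj' (mem_centralizer_singleton_iff.1 hc) hu)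
  have h3 : oP 2 B ≤ oP 2 X := le_oP ((oP_le 2 B).trans hBX) (isPGroup_oP 2 B) (h1.trans (normalizer_le_oP 2 B))
  have h4 : oP 2 X ≤ oP 2 (centralizer {s}) :=
    le_oP ((oP_le 2 X).trans hXC) (isPGroup_oP 2 X) (h2.trans (normalizer_le_oP 2 X))
  exact h4 (h3 hx)

variable {S : Subgroup G} (hS : IsSyl S ⊤)

include hS

/-- (0): the members of `C(s)` are conjugate into `OmZ S` -/
theorem om_into {s : G} (hs : ∀ z ∈ OmZ Z K S, Ce s (K z)) {z : G} (hz : z ∈ Om Z K s) :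
    ∃ c, c * s = s * c ∧ c * z * c⁻¹ ∈ OmZ Z K S := by
  obtain ⟨D, -, hD2, hKD, hD⟩ := w.exists_D hS
  have hDs : D ≤ centralizer {s} := fun d hd => mem_centralizer_singleton_iff.2 (hD s hs d hd).symm
  obtain ⟨P, hP, hDP⟩ := exists_isSyl hD2 hDs
  have hKs : K z ≤ centralizer {s} := fun k hk => mem_centralizer_singleton_iff.2 (hz.2 k hk).symm
  obtain ⟨c, hc, hc2⟩ := hP.exists_conj (w.two hz.1) hKs
  refine ⟨c, mem_centralizer_singleton_iff.1 hc, ?_⟩
  apply w.om_eq hS hP.two (fun u hu => (hKD u hu).trans hDP) (w.conjZ z hz.1 c)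
  rw [w.conjK z hz.1]
  intro x hx
  rw [mem_cj] at hx
  have := hc2 _ hx
  have e : c * (c⁻¹ * x * c) * c⁻¹ = x := by group
  rwa [e] at this

theorem om_mem {s z : G} (hs : s ∈ TS Z K S) (hz : z ∈ OmZ Z K S) : z ∈ Om Z K s := ⟨hz.1, w.TS_ce hS hs hz⟩

end XW

end Cfsg.Agent.Cit.Nil.ANTwo
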