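import Cfsg.Agent.Cit.Nil.ANTwo.Two
import Cfsg.Agent.Cit.Nil.RG.Cnt
import Cfsg.Agent.Cit.Nil.RG.Closed
import Cfsg.Prelude.Def_TwoFusion

/-!
# Step (4) of `AN(s)`, any `r`: `T₀` is strongly closed in `S`; the theorem for `m ≥ 3`

* **`Fs.closed`** : `T₀` is strongly closed in `S`; **`an`** : `AN(s)`.
-/

set_option autoImplicit false
set_option linter.unusedSectionVars false
set_option linter.style.haveILetI false

namespace Cfsg.Agent.Cit.Nil.ANTwo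

open Subgroup Cfsg Cfsg.Agent.Cit Cfsg.Agent.StdEven.Syl Cfsg.Agent.OddOrderLocal.NilParts
open Cfsg.Agent.Cit.Nil.AN (Cm Ce OmZ T0 TS Om St Cl Gp OneC cl_refl cl_sub cl_step cl_cm cl_symm cl_trans cl_eq le_Gp
  Gp_le Gp_ce M0 isSyl_cj isPGroup_zpowers_inv self_mem_oP)
open RG (WR RR Ov)

variable {G : Type*} [Group G] {Ω : Set (Subgroup G)} {S : Subgroup G} {KK : Set G}

theorem ncard_omZ_cj [Finite G] {Z : Set G} {K : G → Subgroup G} (w : XW Z K) (g : G) (S : Subgroup G) :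
    Nat.card ↥(OmZ Z K (cj g S)) = Nat.card ↥(OmZ Z K S) := by
  have h1 : OmZ Z K (cj g S) = (fun x => g * x * g⁻¹) '' OmZ Z K S := by
    ext x
    constructor
    · intro hx
      exact ⟨g⁻¹ * x * g, w.omZ_cj.1 hx, by group⟩
    · rintro ⟨y, hy, rfl⟩
      refine w.omZ_cj.2 ?_
      have e : g⁻¹ * (g * y * g⁻¹) * g = y := by group
      rwa [e]
  rw [Nat.card_coe_set_eq, Nat.card_coe_set_eq, h1]
  refine Set.ncard_image_of_injective _ fun a b hab => ?_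
  exact mul_left_cancel (mul_right_cancel hab)

/-- Step (4): `T₀` is strongly closed in `S` -/
theorem Fs.closed [Finite G] (F : Fs (RG.ZZ Ω) (RR Ω) S KK) (h : WR Ω) (j : JArg (RG.ZZ Ω) (RR Ω))
    (sw : SwapI (RG.ZZ Ω) (RR Ω)) : IsStronglyClosed (T0 (RG.ZZ Ω) (RR Ω) S) S := by
  obtain ⟨Z, hZ⟩ : ∃ Z, Z = RG.ZZ Ω := ⟨_, rfl⟩
  obtain ⟨K, hK⟩ : ∃ K, K = RR Ω := ⟨_, rfl⟩
  rw [← hZ, ← hK] at F j sw ⊢
  have hT0S : T0 Z K S ≤ S := F.w.T0_le.trans (F.w.TS_le_S F.hS.two)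
  refine ⟨hT0S, fun t ht g hb => ?_⟩
  by_contra hno
  set b := g * t * g⁻¹ with hbdef
  have ht1 : t ≠ 1 := by
    rintro rfl
    apply hno
    rw [hbdef, mul_one, mul_inv_cancel]
    exact one_mem _
  have htt : t * t = 1 := F.w.TS_sq F.hS (F.w.T0_le ht)
  have hbb : b * b = 1 := by
    calc b * b = g * (t * t) * g⁻¹ := by rw [hbdef]; group
      _ = 1 := by rw [htt]; group
  have hgM : g ∉ M0 Z K S := fun hg => hno (conj_mem_of_mem_normalizer hg ht)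
  -- elements commuting with `b`
  have hC : ∀ x : G, x * b = b * x → g⁻¹ * x * g ∈ M0 Z K S := by
    intro x hx
    apply F.cent_le ht ht1
    calc g⁻¹ * x * g * t = g⁻¹ * (x * b) * g := by rw [hbdef]; group
      _ = g⁻¹ * (b * x) * g := by rw [hx]
      _ = t * (g⁻¹ * x * g) := by rw [hbdef]; group
  -- `b` moves all points
  have hmv : ∀ z ∈ OmZ Z K S, b * z * b⁻¹ ≠ z := by
    intro z hz he
    have h1 : z * b = b * z := by
      calc z * b = b * z * b⁻¹ * b := by rw [he]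
        _ = b * z := by group
    have h2 := hC z h1
    have h3 : g⁻¹ * z * g⁻¹⁻¹ ∈ M0 Z K S := by rwa [inv_inv]
    have h4 := F.mem_M0 j sw (F.fr.sub hz) h3
    exact hgM (by rw [← inv_inv g]; exact inv_mem h4)
  have hbz : ∀ z ∈ OmZ Z K S, b * z * b⁻¹ ∈ OmZ Z K S := fun z hz => F.w.S_nor F.hS hb hz
  -- the Sylow subgroup `S'`
  set C : Subgroup G := S ⊓ centralizer {b} with hCdef
  have hC2 : IsPGroup 2 C := F.hS.two.to_le inf_le_left
  have hCg : cj g⁻¹ C ≤ M0 Z K S := by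
    intro x hx
    rw [mem_cj, inv_inv] at hx
    have h1 := hC _ (mem_centralizer_singleton_iff.1 (mem_inf.1 hx).2)
    have e : g⁻¹ * (g * x * g⁻¹) * g = x := by group
    rwa [e] at h1
  obtain ⟨n, hn, hn2⟩ := F.isSyl_M0.exists_conj (isPGroup_cj hC2) hCg
  set g' := g * n⁻¹ with hg'
  have hg'M : g' ∉ M0 Z K S := by
    intro h1
    apply hgM
    have : g = g' * n := by rw [hg']; group
    rw [this]
    exact mul_mem h1 hn
  have hCS' : C ≤ cj g' S := by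
    intro x hx
    rw [mem_cj]
    have h1 := hn2 _ (conj_mem_cj (g := g⁻¹) hx)
    have e : n * (g⁻¹ * x * g⁻¹⁻¹) * n⁻¹ = g'⁻¹ * x * g' := by rw [hg']; group
    rwa [e] at h1
  have hbi : b⁻¹ = b := inv_eq_of_mul_eq_one_right hbb
  have hmem : ∀ z ∈ OmZ Z K S, ∀ k ∈ K z, k * (b * k * b⁻¹) ∈ C := by
    intro z hz k hk
    have h1 : k ∈ S := hz.2 hk
    have h2 : b * k * b⁻¹ ∈ K (b * z * b⁻¹) := by
      rw [F.w.conjK z hz.1]
      exact conj_mem_cj hk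
    have h3 : k * (b * k * b⁻¹) = (b * k * b⁻¹) * k :=
      F.w.om_cm hz (hbz z hz) (Ne.symm (hmv z hz)) F.hS.two k hk _ h2
    refine mem_inf.2 ⟨mul_mem h1 (mul_mem (mul_mem hb h1) (inv_mem hb)), ?_⟩
    rw [mem_centralizer_singleton_iff]
    calc k * (b * k * b⁻¹) * b = k * b * k := by group
      _ = (b * b) * (k * b * k) := by rw [hbb, one_mul]
      _ = b * ((b * k * b) * k) := by group
      _ = b * ((b * k * b⁻¹) * k) := by rw [hbi]
      _ = b * (k * (b * k * b⁻¹)) := by rw [h3]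
  -- the action on the points of `S'`
  have hX : ∀ c ∈ C, ∀ x ∈ OmZ Z K (cj g' S), c * x * c⁻¹ ∈ OmZ Z K (cj g' S) := fun c hc x hx =>
    F.w.S_nor (isSyl_cj F.hS g') (hCS' hc) hx
  -- a member over each point
  have hmemb : ∀ z : ↥(OmZ Z K S), ∃ L, L ∈ Ov Ω (z : G) := fun z => by
    have h1 : (z : G) ∈ RG.ZZ Ω := by rw [← hZ]; exact z.2.1
    obtain ⟨L, h2, h3⟩ := h1
    exact ⟨L, h2, h3⟩
  choose L hL using hmemb
  have hLK : ∀ z : ↥(OmZ Z K S), L z ≤ K z := fun z => by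
    have h1 : L z ≤ RR Ω (z : G) := WR.le_RR (hL z)
    exact h1.trans (le_of_eq (congrFun hK.symm _))
  let σ : ↥(OmZ Z K S) → ↥(OmZ Z K S) := fun z => ⟨b * z * b⁻¹, hbz z z.2⟩
  have hcomm : ∀ u ∈ OmZ Z K S, ∀ v ∈ OmZ Z K S, u ≠ v → ∀ x ∈ K u, ∀ y ∈ K v, x * y = y * x :=
    fun u hu v hv hne => F.w.om_cm hu hv hne F.hS.two
  have hbK : ∀ z ∈ OmZ Z K S, ∀ y ∈ K z, b * y * b⁻¹ ∈ K (b * z * b⁻¹) := fun z hz y hy => by
    rw [F.w.conjK z hz.1]
    exact conj_mem_cj hy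
  have cn : RG.Cn Ω C b σ L (RG.actX C (OmZ Z K (cj g' S)) hX) := by
    refine
      { h := h
        mem := fun z => (hL z).1
        inv := fun z => Subtype.ext ?_
        ne := fun z e => hmv z z.2 (congrArg Subtype.val e)
        c0 := fun z x hx y hy => hcomm z z.2 _ (hbz z z.2) (hmv z z.2).symm x (hLK z hx) _ (hbK z z.2 y (hLK z hy))
        c1 := fun z u hne _ x hx y hy =>
          hcomm z z.2 u u.2 (fun e => hne (Subtype.ext e)) x (hLK z hx) y (hLK u hy)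
        c2 := fun z u _ hne x hx y hy => ?_
        mv := fun z e => ?_
        le := fun z k hk => hmem z z.2 k (hLK z hk)
        card := ncard_omZ_cj F.w g' S
        fx := fun x z hxz he => ?_ }
    · show b * (b * z * b⁻¹) * b⁻¹ = z
      calc b * (b * z * b⁻¹) * b⁻¹ = (b * b) * z * (b * b)⁻¹ := by group
        _ = z := by rw [hbb]; group
    · refine hcomm z z.2 _ (hbz u u.2) (fun e => hne (Subtype.ext ?_)) x (hLK z hx) _ (hbK u u.2 y (hLK u hy))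
      show b * z * b⁻¹ = u
      rw [e]
      calc b * (b * u * b⁻¹) * b⁻¹ = (b * b) * u * (b * b)⁻¹ := by group
        _ = u := by rw [hbb]; group
    · rw [(hL z).2] at e
      exact hmv z z.2 e
    · rw [(hL z).2] at hxz
      -- `x` fixes all points of `S'`
      have hne : (x : G) ≠ 1 := by rw [hxz]; exact F.mul_ne (hbz z z.2) (hmv z z.2).symm
      have hxT : (x : G) ∈ T0 Z K S := by rw [hxz]; exact F.w.mul_mem_T0 z.2 (hbz z z.2)
      obtain ⟨a, ha, -⟩ := (F.conj g').three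
      have h1 := congrArg (fun f : Equiv.Perm ↥(OmZ Z K (cj g' S)) => ((f ⟨a, ha⟩ : ↥(OmZ Z K (cj g' S))) : G)) he
      have h2 : (x : G) * a * (x : G)⁻¹ = a := h1
      have h3 : a * x = x * a := by
        calc a * x = x * a * (x : G)⁻¹ * x := by rw [h2]
          _ = x * a := by group
      have h4 : a ∈ M0 Z K S := F.cent_le hxT hne h3
      have h5 := F.w.omZ_cj.1 ha
      apply hg'M
      apply F.mem_M0 j sw (F.fr.sub h5)
      have e : g' * (g'⁻¹ * a * g') * g'⁻¹ = a := by group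
      rwa [e]
  haveI : Nonempty ↥(OmZ Z K S) := by
    obtain ⟨a, ha, -⟩ := F.three
    exact ⟨⟨a, ha⟩⟩
  exact cn.false

/-- the end: there is no strongly closed commutative subgroup -/
def NoCl (Z : Set G) (S : Subgroup G) : Prop :=
  ∀ A : Subgroup G, A ≠ ⊥ → A ≤ closure Z → (∀ x ∈ A, ∀ y ∈ A, x * y = y * x) → IsStronglyClosed A S → False

/-- **`AN(s)`** for `m ≥ 3` -/
theorem an [Finite G] (n : NW (RG.ZZ Ω) (RR Ω)) (h : WR Ω) (hS : IsSyl S ⊤) (j : JArg (RG.ZZ Ω) (RR Ω))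
    (sw : SwapI (RG.ZZ Ω) (RR Ω))
    (three : ∃ z₁ ∈ OmZ (RG.ZZ Ω) (RR Ω) S, ∃ z₂ ∈ OmZ (RG.ZZ Ω) (RR Ω) S, ∃ z₃ ∈ OmZ (RG.ZZ Ω) (RR Ω) S,
      z₁ ≠ z₂ ∧ z₁ ≠ z₃ ∧ z₂ ≠ z₃)
    (tp : ∀ s ∈ TS (RG.ZZ Ω) (RR Ω) S, s ≠ 1 → CompR.TPs (RG.ZZ Ω) (RR Ω) s) (ncl : NoCl (RG.ZZ Ω) S) {s : G}
    (hs : s ∈ TS (RG.ZZ Ω) (RR Ω) S) (hs1 : s ≠ 1) {z : G} (hz : z ∈ RG.ZZ Ω) (hsz : Ce s (RR Ω z)) :
    z ∈ oP 2 (centralizer {s}) := by
  by_contra hn
  have three' := three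
  obtain ⟨a, ha, b, hb, -, -, hab, -, -⟩ := three'
  obtain ⟨KK, fr⟩ := n.exists_fr hS tp hs hs1 ⟨hz, hsz⟩ hn ha hb hab
  have F : Fs (RG.ZZ Ω) (RR Ω) S KK := ⟨n, hS, fr, three⟩
  obtain ⟨t, ht, ht1⟩ := F.exists_t
  refine ncl (T0 (RG.ZZ Ω) (RR Ω) S) ?_ ?_ (fun x hx y hy => n.w.T0_comm hS hx hy) (F.closed h j sw)
  · intro h1
    rw [h1, mem_bot] at ht
    exact ht1 ht
  · refine n.w.T0_le.trans ?_
    exact closure_mono fun x hx => hx.1

end Cfsg.Agent.Cit.Nil.ANTwo
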