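import Cfsg.Agent.Cit.Nil.ANTwo.Four
import Cfsg.Agent.Cit.Nil.RTwoM.JArg

/-!
# `r = 2` : the J-ARGUMENT and the swap lemma; `AN(s)` for `m ≥ 3`

* **`jarg`** : `WM Om → JArg (ZZ Om) (RR Om)` (from helper762's J-ARGUMENT, `JF.main`); **`swapI`** : the swap lemma;
* `omZ_eq`, `cent_all` : a member centralised by `s ∈ T_S`: all members over its involution are;
* **`ant_of`** : nil C-pairs, `T'` for `C(s)`, `s ∈ T_S`, no strongly closed commutative subgroup, `m ≥ 3`: `ANT Om`.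
-/

set_option autoImplicit false
set_option linter.unusedSectionVars false
set_option linter.style.haveILetI false

namespace Cfsg.Agent.Cit.Nil.ANTwo

open Subgroup Cfsg Cfsg.Agent.Cit Cfsg.Agent.StdEven.Syl Cfsg.Agent.OddOrderLocal.NilParts
open Cfsg.Agent.Cit.Nil.AN (Cm Ce OmZ T0 TS Om)
open RG (WR RR Ov InO)
open RI (CS)
open RTwoM (WM Mem InZ CX RZ As TI Swp qq TT ANt ANT)

variable {G : Type*} [Group G] {Ω : Set (Subgroup G)} {S : Subgroup G} {K L M : Subgroup G} {e s t u v w x y z g k : G}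

section

variable [Finite G]

theorem ce_iff (h : WM Ω) : Ce t (RR Ω x) ↔ t ∈ CX Ω x := by
  rw [RTwoM.mem_CX]
  constructor
  · intro h1 K hK k hk
    exact h1 k (WR.le_RR hK hk)
  · intro h1 k hk
    rw [RTwoM.RR_eq] at hk
    exact RTwoM.CX_comm hk (RTwoM.mem_CX.2 h1)

/-- **the J-ARGUMENT** -/
theorem jarg (h : WM Ω) : JArg (RG.ZZ Ω) (RR Ω) := by
  intro x hx A hcomm hsq hxA hAx hnor hthree
  by_cases h0 : ∃ t ∈ A, t ≠ 1 ∧ Ce t (RR Ω x)
  · exact Or.inl h0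
  right
  push Not at h0
  have hxZ : InZ Ω x := hx
  have jf : RTwoM.JF Ω A A x :=
    { inZ := hxZ
      comm' := hcomm
      sq := hsq
      nin := hxA
      le := le_rfl
      tx := hAx
      nor := fun t ht ht1 r hr hc a ha => hnor t ht ht1 r (by rw [RTwoM.RR_eq]; exact hr) hc a ha
      ff := fun t ht hc => by
        by_contra ht1
        exact h0 t ht ht1 ((ce_iff h).2 hc)
      three := hthree }
  obtain ⟨K, hK⟩ := hxZ
  obtain ⟨p, -, s, -, a, ha, hsw, -, -, haa, -, -, -, hJ, -⟩ := jf.main h hK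
  refine ⟨_, hJ, ?_, ?_⟩
  · rw [RTwoM.RR_eq]
    exact mul_mem (RTwoM.z_mem_RZ hK.inZ h) (RTwoM.qq_mem hsw h hK ha)
  · intro h1
    have h2 : qq p a = x := by
      have h3 := eq_inv_of_mul_eq_one_right h1
      rwa [hK.inZ.inv h] at h3
    have h3 := (hsw.as_qq h hK ha).1
    rw [h2] at h3
    exact hK.not_as_one h h3 haa (hK.as_z h)

/-- the elements `k k^x`, `k ∈ K_u`, if `(u, u^x)` is a C-pair -/
theorem sw_comm (h : WM Ω) (hx : x * x = 1) (hc : Cm (RR Ω u) (RR Ω (x * u * x⁻¹))) (hk : k ∈ RR Ω u) :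
    k * (x * k * x⁻¹) * x = x * (k * (x * k * x⁻¹)) := by
  have h1 := hc k hk (x * k * x⁻¹) (by
    have h2 := h.wr.RR_cj (z := u) hk x
    exact h2)
  have hx' : x⁻¹ = x := inv_eq_of_mul_eq_one_right hx
  rw [h1]
  calc x * k * x⁻¹ * k * x = x * k * x⁻¹ * k * x⁻¹ := by rw [hx']
    _ = x * (k * x⁻¹ * k * x⁻¹) := by group
    _ = x * (k * x * k * x⁻¹) := by rw [hx']
    _ = x * (k * (x * k * x⁻¹)) := by group
    _ = x * (x * k * x⁻¹ * k) := by rw [h1]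

theorem sw_mul (h : WM Ω) (hc : Cm (RR Ω u) (RR Ω (x * u * x⁻¹))) (hk : k ∈ RR Ω u) (hg : g ∈ RR Ω u) :
    k * g * (x * (k * g) * x⁻¹) = (k * (x * k * x⁻¹)) * (g * (x * g * x⁻¹)) := by
  have h1 := hc g hg (x * k * x⁻¹) (h.wr.RR_cj (z := u) hk x)
  calc k * g * (x * (k * g) * x⁻¹) = k * (g * (x * k * x⁻¹)) * (x * g * x⁻¹) := by group
    _ = k * ((x * k * x⁻¹) * g) * (x * g * x⁻¹) := by rw [h1]
    _ = _ := by group

/-- `u u^x` acts on the members over `x` as an inner automorphism -/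
theorem sw_inn (h : WM Ω) (hx : InZ Ω x) (hu : InZ Ω u) (hc : Cm (RR Ω u) (RR Ω (x * u * x⁻¹))) (hL : Mem Ω x L) :
    RG.Inn (u * (x * u * x⁻¹)) L := by
  obtain ⟨K, q, hK, hq⟩ := hu.exists_q3 h
  have hxx := hx.z2 h
  have huu := hu.z2 h
  have hKR : ∀ {k}, k ∈ K → k ∈ RR Ω u := fun hk => WR.le_RR (z := u) hK hk
  have huR : u ∈ RR Ω u := hKR (hK.zmem h)
  -- `e² = 1`
  have hee : (u * (x * u * x⁻¹)) * (u * (x * u * x⁻¹)) = 1 := by
    rw [← sw_mul h hc huR huR, huu, mul_one, mul_inv_cancel, one_mul]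
  -- `d_k² = e`
  have hdd : ∀ i, (q i * (x * q i * x⁻¹)) * (q i * (x * q i * x⁻¹)) = u * (x * u * x⁻¹) := fun i => by
    rw [← sw_mul h hc (hKR (hq.mem i)) (hKR (hq.mem i)), hq.sq i]
  -- one of the `d_i` fixes `L`
  have hfix : ∃ i, cj (q i * (x * q i * x⁻¹)) L = L := by
    by_contra hcon
    push Not at hcon
    obtain ⟨L', hL', hne, hall⟩ := hL.other h
    have hd : ∀ i, cj (q i * (x * q i * x⁻¹)) L = L' ∧ cj (q i * (x * q i * x⁻¹)) L' = L := fun i => by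
      rcases RTwoM.cj_cases h hL hL' hne (sw_comm h hxx hc (hKR (hq.mem i))) with h1 | h1
      · exact absurd h1.1 (hcon i)
      · exact h1
    apply hcon 2
    have h1 : q 2 * (x * q 2 * x⁻¹) = (q 0 * (x * q 0 * x⁻¹)) * (q 1 * (x * q 1 * x⁻¹)) := by
      have h2 : q 0 * q 1 = q 2 := hq.mul 0
      rw [← sw_mul h hc (hKR (hq.mem 0)) (hKR (hq.mem 1)), h2]
    rw [h1, cj_mul, (hd 1).1, (hd 0).2]
  obtain ⟨i, hi⟩ := hfix
  have h1 := h.wr.inn_sq hL.1 hi (by rw [hdd i]; exact hee)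
  rwa [hdd i] at h1

/-- **the swap lemma** -/
theorem swapI (h : WM Ω) : SwapI (RG.ZZ Ω) (RR Ω) := by
  intro x hx u hu hc
  have hxZ : InZ Ω x := hx
  have huZ : InZ Ω u := hu
  obtain ⟨L, hL⟩ := id hxZ
  have hxx := hxZ.z2 h
  have huu := huZ.z2 h
  have hxi : x⁻¹ = x := hxZ.inv h
  have hui : u⁻¹ = u := huZ.inv h
  have huR : u ∈ RR Ω u := h.wr.RR_mem hu
  have hvR : x * u * x⁻¹ ∈ RR Ω (x * u * x⁻¹) := h.wr.RR_mem (h.wr.zz_cj hu x)
  have huv : u * (x * u * x⁻¹) = (x * u * x⁻¹) * u := hc u huR _ hvR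
  obtain ⟨e, he⟩ : ∃ e, e = u * (x * u * x⁻¹) := ⟨_, rfl⟩
  have hne : u ≠ x * u * x⁻¹ := by
    intro h1
    rw [← h1] at hc
    obtain ⟨K, q, hK, hq⟩ := huZ.exists_q3 h
    have h2 := hc _ (WR.le_RR (z := u) hK (hq.mem 0)) _ (WR.le_RR (z := u) hK (hq.mem 1))
    have h3 := hq.anti (i := 0) (j := 1) (by decide)
    rw [h2, mul_assoc] at h3
    exact hq.zne _ h3.symm
  have hex : e * x = x * e := by rw [he]; exact sw_comm h hxx hc huR
  -- `x e = u x u⁻¹`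
  have hxe : x * e = u * x * u⁻¹ := by
    rw [he, huv, hui]
    calc x * (x * u * x⁻¹ * u) = (x * x) * u * x⁻¹ * u := by group
      _ = u * x * u := by rw [hxx, hxi, one_mul]
  have hxeZ : InZ Ω (x * e) := by rw [hxe]; exact hxZ.conj h u
  have hinn : ∀ k ∈ L, (x * e) * k * (x * e)⁻¹ = k ∨ (x * e) * k * (x * e)⁻¹ = x * k := by
    intro k hk
    obtain ⟨y, hy, h1⟩ := sw_inn h hxZ huZ hc hL
    rw [← he] at h1
    have h2 : (x * e) * k * (x * e)⁻¹ = e * k * e⁻¹ := by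
      have h3 : e * k * e⁻¹ ∈ L := by rw [h1 k hk]; exact mul_mem (mul_mem hy hk) (inv_mem hy)
      calc (x * e) * k * (x * e)⁻¹ = x * (e * k * e⁻¹) * x⁻¹ := by group
        _ = (e * k * e⁻¹) * x * x⁻¹ := by rw [hL.comm_z h h3]
        _ = _ := by group
    rw [h2, h1 k hk]
    exact hL.comm_or h hk hy
  have he1 : e ≠ 1 := by
    intro h1
    apply hne
    rw [he] at h1
    have h2 := eq_inv_of_mul_eq_one_right h1
    rw [hui] at h2
    exact h2.symm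
  rw [← he]
  rcases RTwoM.inn_cases h hL hxeZ hinn with h1 | h1 | h1
  · exact absurd (mul_eq_left.1 h1.symm) he1
  · left
    intro k hk
    rw [RTwoM.RR_eq] at hk
    have h2 := RTwoM.CX_comm hk (RTwoM.cp_cx h hxeZ h1)
    have h3 := RTwoM.RZ_le_centralizer h hk
    calc e * k = x * (x * e * k) := by
          calc e * k = (x * x) * e * k := by rw [hxx, one_mul]
            _ = _ := by group
      _ = x * (k * (x * e)) := by rw [h2]
      _ = (x * k) * (x * e) := by group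
      _ = (k * x) * (x * e) := by rw [h3]
      _ = k * ((x * x) * e) := by group
      _ = k * e := by rw [hxx, one_mul]
  · right
    have h2 := h1.inZ_mul h
    rw [← mul_assoc, hxx, one_mul] at h2
    exact h2

/-- the points of `S` -/
theorem omZ_eq (h : WM Ω) (S : Sylow 2 G) : OmZ (RG.ZZ Ω) (RR Ω) (S : Subgroup G) = CS Ω (S : Subgroup G) := by
  ext z
  constructor
  · rintro ⟨⟨K, hK, hz⟩, hle⟩
    exact ⟨K, ⟨hK, hz⟩, (WR.le_RR (z := z) ⟨hK, hz⟩).trans hle⟩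
  · intro hz
    refine ⟨RTwoM.CS.inZ hz, ?_⟩
    have h1 := RTwoM.CS.RZ_le hz h
    intro x hx
    rw [RTwoM.RR_eq] at hx
    exact h1 hx

theorem ts_eq (h : WM Ω) (S : Sylow 2 G) : TS (RG.ZZ Ω) (RR Ω) (S : Subgroup G) = TT Ω (S : Subgroup G) := by
  rw [TS, omZ_eq h S]
  rfl

/-- a member centralised by `s ∈ T_S`: `s` centralises all members over its involution -/
theorem cent_all (h : WM Ω) (S : Sylow 2 G) (hs : s ∈ TT Ω (S : Subgroup G)) (hK : Mem Ω z K)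
    (hc : ∀ k ∈ K, s * k = k * s) : s ∈ CX Ω z := by
  haveI : Fact (Nat.Prime 2) := ⟨Nat.prime_two⟩
  -- the product of the members of `S`
  obtain ⟨D, hDS, hD2, hKD, hD⟩ := (XW.of_gw (CompR.GW.of_wr h.wr h.hyp)).exists_D (isSyl_top_of_sylow S)
  have hsD : Ce s D := hD s fun u hu => by
    rw [ce_iff h]
    rw [omZ_eq h S] at hu
    exact RTwoM.TT_cx h S.isPGroup' hu hs
  have hDs : D ≤ centralizer {s} := fun d hd => mem_centralizer_singleton_iff.2 (hsD d hd).symm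
  obtain ⟨P, hP, hDP⟩ := exists_isSyl hD2 hDs
  have hKs : K ≤ centralizer {s} := fun k hk => mem_centralizer_singleton_iff.2 (hc k hk).symm
  obtain ⟨c, hc1, hc2⟩ := hP.exists_conj (h.isPGroup hK.1) hKs
  have hcs : c * s = s * c := mem_centralizer_singleton_iff.1 hc1
  have hKc := hK.cj h c
  have hle : cj c K ≤ P := by
    rintro _ ⟨k, hk, rfl⟩
    exact hc2 k hk
  -- `K^c ≤ S`
  have h1 : cj c K ≤ (S : Subgroup G) := by
    refine RTwoM.le_of_clique h S hKc.1 fun L hL hLS hne a ha b hb => ?_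
    have hLD : L ≤ D := by
      have h2 : zz L ∈ OmZ (RG.ZZ Ω) (RR Ω) (S : Subgroup G) := by
        rw [omZ_eq h S]
        exact ⟨L, ⟨hL, rfl⟩, hLS⟩
      exact (WR.le_RR (z := zz L) ⟨hL, rfl⟩).trans (hKD _ h2)
    exact RTwoM.com h hP.two hKc.1 hL hle (hLD.trans hDP) hne.symm a ha b hb
  have h2 : c * z * c⁻¹ ∈ CS Ω (S : Subgroup G) := ⟨cj c K, hKc, h1⟩
  have h3 := RTwoM.TT_cx h S.isPGroup' h2 hs
  have h4 := (RTwoM.CX_conj h c (x := s) (z := z)).1 (by rwa [hcs, mul_inv_cancel_right])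
  exact h4

/-- **`AN(s)` for all `s ∈ T_S`, `s ≠ 1`, `m ≥ 3`** -/
theorem ant_of (h : WM Ω)
    (nil : ∀ z ∈ RG.ZZ Ω, ∀ u ∈ RG.ZZ Ω, ROne.CP (RR Ω) z u → u ∈ oP 2 (centralizer {z}))
    (tp : CompR.TP (RG.ZZ Ω) (RR Ω)) (ncl : ∀ S : Sylow 2 G, NoCl (RG.ZZ Ω) (S : Subgroup G))
    (three : ∀ S : Sylow 2 G, 3 ≤ (CS Ω (S : Subgroup G)).ncard) : ANT Ω := by
  have gw := CompR.GW.of_wr h.wr h.hyp
  have n : NW (RG.ZZ Ω) (RR Ω) :=
    { gw := gw
      nil := fun z hz u hu hc => nil z hz u hu ((CompR.cp_iff gw hz).2 hc) }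
  intro S s hs hs1 K hK hc
  have hsz : Ce s (RR Ω (zz K)) := (ce_iff h).2 (cent_all h S hs ⟨hK, rfl⟩ hc)
  have h1 : zz K ∈ oP 2 (centralizer {s}) := by
    refine an n h.wr (isSyl_top_of_sylow S) (jarg h) (swapI h) ?_ (fun t ht ht1 => tp S t ?_ ht1) (ncl S) ?_ hs1
      ⟨K, hK, rfl⟩ hsz
    · rw [omZ_eq h S]
      obtain ⟨a, ha, b, hb, c, hc, hab, hac, hbc⟩ := (Set.two_lt_ncard (Set.toFinite _)).1 (three S)
      exact ⟨a, ha, b, hb, c, hc, hab, hac, hbc⟩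
    · exact ht
    · rwa [ts_eq h S]
  exact ⟨oP 2 (centralizer {s}), oP_le 2 _, le_normalizer_oP 2 _, isPGroup_oP 2 _, h1⟩

end

end Cfsg.Agent.Cit.Nil.ANTwo
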