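import Cfsg.Agent.Cit.Nil.ANTwo.Base

/-!
# Step (1) of `AN(s)`, any `r`

* `NW Z K` : the world of points with nil C-pairs;
* `Fr Z K S KK` : the frame; `NW.exists_fr` : if a point of `C(s)`, `s ∈ T_S`, `s ≠ 1`, is not nil, there is a frame;
* `Fr.not_mem` : `T₀ ∩ Z = ∅`.
-/

set_option autoImplicit false
set_option linter.unusedSectionVars false
set_option linter.style.haveILetI false

namespace Cfsg.Agent.Cit.Nil.ANTwo

open Subgroup Cfsg.Agent.Cit Cfsg.Agent.StdEven.Syl Cfsg.Agent.OddOrderLocal.NilParts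
open Cfsg.Agent.Cit.Nil.AN (Cm Ce OmZ T0 TS Om St Cl Gp OneC cl_refl cl_sub cl_step cl_cm cl_symm cl_trans cl_eq le_Gp
  Gp_le Gp_ce M0 isSyl_cj isPGroup_zpowers_inv self_mem_oP)

variable {G : Type*} [Group G]

/-- the world of points, all C-pairs are nil -/
structure NW (Z : Set G) (K : G → Subgroup G) : Prop where
  gw : CompR.GW Z K
  nil : ∀ z ∈ Z, ∀ u ∈ Z, Cm (K z) (K u) → u ∈ oP 2 (centralizer {z})

theorem NW.w {Z : Set G} {K : G → Subgroup G} (n : NW Z K) : XW Z K := XW.of_gw n.gw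

/-- the frame obtained in step (1) -/
structure Fr (Z : Set G) (K : G → Subgroup G) (S : Subgroup G) (KK : Set G) : Prop where
  sub : OmZ Z K S ⊆ KK
  om : ∀ t ∈ T0 Z K S, t ≠ 1 → Om Z K t = KK
  one : ∀ u ∈ KK, ∀ v ∈ KK, Cm (K u) (K v) → ∀ x ∈ KK, Ce (u * v) (K x)
  nnil : ∀ t ∈ T0 Z K S, t ≠ 1 → ∀ z ∈ OmZ Z K S, z ∉ oP 2 (centralizer {t})

variable {Z : Set G} {K : G → Subgroup G} {S : Subgroup G} {KK : Set G}

namespace NW

variable (n : NW Z K) [Finite G] (hS : IsSyl S ⊤)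

include n hS

/-- (1a) -/
theorem all_mem {s z : G} (hs : s ∈ TS Z K S) (hz : z ∈ OmZ Z K S) (hn : z ∉ oP 2 (centralizer {s})) {u : G}
    (hu : u ∈ OmZ Z K S) : u ∈ Cl Z K s z := by
  by_contra hc
  apply hn
  have hzs := n.w.om_mem hS hs hz
  have hus := n.w.om_mem hS hs hu
  have h1 : Gp K (Cl Z K s z) ≤ centralizer {u} := Gp_le fun v hv k hk =>
    mem_centralizer_singleton_iff.2 (cl_cm hv hus hc k hk u (n.w.mem u hu.1))
  apply n.w.oP_up hzs
  have h2 : z ∈ oP 2 (centralizer {u}) := n.nil u hu.1 z hz.1 (cl_cm (cl_refl s z) hus hc).symm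
  exact AN.BW.oP_down h1 h2 (le_Gp (cl_refl s z) (n.w.mem z hz.1))

/-- Step (1). -/
theorem exists_fr (tp : ∀ s ∈ TS Z K S, s ≠ 1 → CompR.TPs Z K s)
    {s z0 : G} (hs : s ∈ TS Z K S) (hs1 : s ≠ 1) (hz0 : z0 ∈ Om Z K s) (hn0 : z0 ∉ oP 2 (centralizer {s}))
    {a b : G} (ha : a ∈ OmZ Z K S) (hb : b ∈ OmZ Z K S) (hab : a ≠ b) : ∃ KK, Fr Z K S KK := by
  have w := n.w
  -- a member of `S` which is not nil
  obtain ⟨c, hc, hcz⟩ := w.om_into hS (fun z hz => w.TS_ce hS hs hz) hz0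
  set z := c * z0 * c⁻¹ with hzdef
  have hn : z ∉ oP 2 (centralizer {s}) := by
    intro h
    apply hn0
    have h1 : c⁻¹ ∈ normalizer (oP 2 (centralizer {s}) : Set G) :=
      le_normalizer_oP 2 _ (inv_mem (mem_centralizer_singleton_iff.2 hc))
    have h2 := conj_mem_of_mem_normalizer h1 h
    have e : c⁻¹ * z * c⁻¹⁻¹ = z0 := by rw [hzdef]; group
    rwa [e] at h2
  have hzs := w.om_mem hS hs hcz
  have hone := (tp s hs hs1 z hzs).resolve_left hn
  have hall : ∀ u ∈ OmZ Z K S, u ∈ Cl Z K s z := fun u hu => n.all_mem hS hs hcz hn hu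
  -- `T₀` centralises the class
  have hT0 : ∀ t ∈ T0 Z K S, ∀ u ∈ Cl Z K s z, Ce t (K u) := by
    intro t ht u hu
    have h1 : T0 Z K S ≤ centralizer (K u : Set G) := by
      unfold T0
      rw [closure_le]
      rintro _ ⟨x, hx, y, hy, rfl⟩
      rw [SetLike.mem_coe, mem_centralizer_iff]
      intro k hk
      by_cases hxy : x = y
      · subst hxy
        rw [w.sq x hx.1, one_mul, mul_one]
      · exact (hone x (hall x hx) y (hall y hy) (w.om_cm hx hy hxy hS.two) u hu k hk).symm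
    intro k hk
    exact (mem_centralizer_iff.1 (h1 ht) k hk).symm
  -- no `t ∈ T₀#` is nil
  have hnt : ∀ t ∈ T0 Z K S, t ≠ 1 → z ∉ oP 2 (centralizer {t}) := by
    intro t ht _ h
    apply hn
    apply w.oP_up hzs
    have h1 : Gp K (Cl Z K s z) ≤ centralizer {t} := Gp_le fun v hv k hk =>
      mem_centralizer_singleton_iff.2 (hT0 t ht v hv k hk).symm
    exact AN.BW.oP_down h1 h (le_Gp (cl_refl s z) (w.mem z hcz.1))
  have hall' : ∀ t ∈ T0 Z K S, t ≠ 1 → ∀ u ∈ OmZ Z K S, u ∈ Cl Z K t z := fun t ht ht1 u hu =>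
    n.all_mem hS (w.T0_le ht) hcz (hnt t ht ht1) hu
  have hone' : ∀ t ∈ T0 Z K S, t ≠ 1 → OneC Z K t z := fun t ht ht1 =>
    (tp t (w.T0_le ht) ht1 z (w.om_mem hS (w.T0_le ht) hcz)).resolve_left (hnt t ht ht1)
  have hT0' : ∀ t ∈ T0 Z K S, t ≠ 1 → ∀ t' ∈ T0 Z K S, ∀ u ∈ Cl Z K t z, Ce t' (K u) := by
    intro t ht ht1 t' ht' u hu
    have h1 : T0 Z K S ≤ centralizer (K u : Set G) := by
      unfold T0
      rw [closure_le]
      rintro _ ⟨x, hx, y, hy, rfl⟩
      rw [SetLike.mem_coe, mem_centralizer_iff]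
      intro k hk
      by_cases hxy : x = y
      · subst hxy
        rw [w.sq x hx.1, one_mul, mul_one]
      · exact (hone' t ht ht1 x (hall' t ht ht1 x hx) y (hall' t ht ht1 y hy) (w.om_cm hx hy hxy hS.two) u hu k hk).symm
    intro k hk
    exact (mem_centralizer_iff.1 (h1 ht') k hk).symm
  -- the class does not depend on `t`
  have hsub : ∀ t ∈ T0 Z K S, t ≠ 1 → ∀ t' ∈ T0 Z K S, Cl Z K t z ⊆ Cl Z K t' z := by
    intro t ht ht1 t' ht' u hu
    have hu' : Relation.ReflTransGen (St Z K t) z u := hu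
    clear hu
    induction hu' with
    | refl => exact cl_refl _ _
    | @tail b c h1 h2 ih =>
      refine cl_step ih ⟨h2.1.1, ?_⟩ h2.2
      exact hT0' t ht ht1 t' ht' c (Relation.ReflTransGen.tail h1 h2)
  -- every member of `C(t)` lies in the class
  have hom : ∀ t ∈ T0 Z K S, t ≠ 1 → Om Z K t = Cl Z K t z := by
    intro t ht ht1
    have hzt := w.om_mem hS (w.T0_le ht) hcz
    apply Set.Subset.antisymm
    · intro u hu
      obtain ⟨c, hc, hcu⟩ := w.om_into hS (fun z hz => w.T0_ce hS ht hz) hu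
      have hc' : c⁻¹ * t = t * c⁻¹ := by
        calc c⁻¹ * t = c⁻¹ * (t * c) * c⁻¹ := by group
          _ = c⁻¹ * (c * t) * c⁻¹ := by rw [hc]
          _ = t * c⁻¹ := by group
      have h1 := w.cl_conj hc' hzt (hall' t ht ht1 _ hcu)
      have e : c⁻¹ * (c * u * c⁻¹) * c⁻¹⁻¹ = u := by group
      rw [e] at h1
      -- `h1 : u ∈ Cl t (c⁻¹ z c)`
      by_cases hcl : c⁻¹ * z * c⁻¹⁻¹ ∈ Cl Z K t z
      · exact cl_trans hcl h1
      · exfalso
        apply hcl
        apply hall' t ht ht1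
        have hzc : c⁻¹ * z * c⁻¹⁻¹ ∈ Om Z K t := w.om_conj' hc' hzt
        apply w.om_of_cm hS hzc.1
        intro v hv _
        exact cl_cm (hall' t ht ht1 v hv) hzc hcl
    · exact fun u hu => cl_sub hzt hu
  -- an element of `T₀#`
  have habT : a * b ∈ T0 Z K S := w.mul_mem_T0 ha hb
  have hab1 : a * b ≠ 1 := by
    intro h
    apply hab
    rw [← w.inv hb.1]
    exact eq_inv_of_mul_eq_one_left h
  refine ⟨Cl Z K (a * b) z, fun u hu => hall' _ habT hab1 u hu, fun t ht ht1 => ?_, ?_, fun t ht ht1 u hu h1 => ?_⟩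
  · rw [hom t ht ht1]
    exact Set.Subset.antisymm (hsub t ht ht1 _ habT) (hsub _ habT hab1 t ht)
  · exact hone' _ habT hab1
  · have hzt := w.om_mem hS (w.T0_le ht) hcz
    exact hnt t ht ht1 ((CompR.nil_cl n.gw hzt (hall' t ht ht1 u hu)).1 h1)

end NW

end Cfsg.Agent.Cit.Nil.ANTwo
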