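import Cfsg.Agent.Cit.Nil.ANTwo.One

/-!
# Steps (2), (3) of `AN(s)`, any `r`

* `JArg Z K` : the J-ARGUMENT (helper762), `SwapI Z K` : the swap lemma; these are the only facts on `K x`;
* `Fs Z K S KK` : the situation of the steps (2) - (4) (`m ≥ 3`);
* **`Fs.cent_om`** (2) : `C(z) ≤ M₀` for `z ∈ OmZ S`; **`Fs.mem_kk_of_S`**, `Fs.mem_kk_of_M0`, `Fs.mem_M0` (3).
-/

set_option autoImplicit false
set_option linter.unusedSectionVars false
set_option linter.style.haveILetI false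

namespace Cfsg.Agent.Cit.Nil.ANTwo

open Subgroup Cfsg.Agent.Cit Cfsg.Agent.StdEven.Syl Cfsg.Agent.OddOrderLocal.NilParts
open Cfsg.Agent.Cit.Nil.AN (Cm Ce OmZ T0 TS Om St Cl Gp OneC cl_refl cl_sub cl_step cl_cm cl_symm cl_trans cl_eq le_Gp
  Gp_le Gp_ce M0 isSyl_cj isPGroup_zpowers_inv self_mem_oP)

variable {G : Type*} [Group G]

/-- the J-ARGUMENT -/
def JArg (Z : Set G) (K : G → Subgroup G) : Prop := ∀ x ∈ Z, ∀ A : Subgroup G, (∀ a ∈ A, ∀ b ∈ A, a * b = b * a) →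
  (∀ a ∈ A, a * a = 1) → x ∉ A → (∀ t ∈ A, t * x = x * t) →
  (∀ t ∈ A, t ≠ 1 → ∀ r ∈ K x, t * r = r * t → ∀ a ∈ A, r * a * r⁻¹ ∈ A) →
  (∃ s ∈ A, ∃ t ∈ A, s ≠ 1 ∧ t ≠ 1 ∧ s ≠ t) → (∃ t ∈ A, t ≠ 1 ∧ Ce t (K x)) ∨ ∃ j ∈ A, j ∈ K x ∧ j ≠ 1

/-- the swap lemma -/
def SwapI (Z : Set G) (K : G → Subgroup G) : Prop := ∀ x ∈ Z, ∀ u ∈ Z, Cm (K u) (K (x * u * x⁻¹)) →
  Ce (u * (x * u * x⁻¹)) (K x) ∨ u * (x * u * x⁻¹) ∈ Z

/-- the situation of the steps (2) - (4) -/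
structure Fs (Z : Set G) (K : G → Subgroup G) (S : Subgroup G) (KK : Set G) : Prop where
  n : NW Z K
  hS : IsSyl S ⊤
  fr : Fr Z K S KK
  three : ∃ z₁ ∈ OmZ Z K S, ∃ z₂ ∈ OmZ Z K S, ∃ z₃ ∈ OmZ Z K S, z₁ ≠ z₂ ∧ z₁ ≠ z₃ ∧ z₂ ≠ z₃

variable {Z : Set G} {K : G → Subgroup G} {S : Subgroup G} {KK : Set G}

theorem Fs.w (F : Fs Z K S KK) : XW Z K := F.n.w

theorem XW.omZ_cj (w : XW Z K) {g z : G} : z ∈ OmZ Z K (cj g S) ↔ g⁻¹ * z * g ∈ OmZ Z K S := by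
  constructor
  · rintro ⟨h1, h2⟩
    have h3 := w.conjZ z h1 g⁻¹
    have h4 := w.conjK z h1 g⁻¹
    rw [inv_inv] at h3 h4
    refine ⟨h3, ?_⟩
    rw [h4]
    have := cj_mono g⁻¹ h2
    rwa [cj_inv_cj] at this
  · rintro ⟨h1, h2⟩
    have h3 := w.conjZ _ h1 g
    have h4 := w.conjK _ h1 g
    have e : g * (g⁻¹ * z * g) * g⁻¹ = z := by group
    rw [e] at h3 h4
    exact ⟨h3, by rw [h4]; exact cj_mono g h2⟩

theorem XW.T0_cj (w : XW Z K) (g : G) : T0 Z K (cj g S) = cj g (T0 Z K S) := by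
  have key : ∀ (S : Subgroup G) (g : G), T0 Z K (cj g S) ≤ cj g (T0 Z K S) := by
    intro S g
    conv_lhs => unfold T0
    rw [closure_le]
    rintro _ ⟨z, hz, u, hu, rfl⟩
    rw [SetLike.mem_coe, mem_cj]
    have : g⁻¹ * (z * u) * g = (g⁻¹ * z * g) * (g⁻¹ * u * g) := by group
    rw [this]
    exact w.mul_mem_T0 (w.omZ_cj.1 hz) (w.omZ_cj.1 hu)
  apply le_antisymm (key S g)
  have h1 := key (cj g S) g⁻¹
  rw [cj_inv_cj] at h1
  have h2 := cj_mono g h1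
  rwa [cj_cj_inv] at h2


namespace Fs

variable [Finite G] (F : Fs Z K S KK)

include F

theorem conj (g : G) : Fs Z K (cj g S) ((fun z => g * z * g⁻¹) '' KK) := by
  have e : ∀ x : G, g⁻¹ * (g * x * g⁻¹) * g = x := fun x => by group
  have e' : ∀ x : G, g * (g⁻¹ * x * g) * g⁻¹ = x := fun x => by group
  have hsub : ∀ u ∈ KK, u ∈ Z := by
    obtain ⟨a, ha, b, hb, -, -, hab, -, -⟩ := F.three
    intro u hu
    have h1 : a * b ≠ 1 := fun h => hab (by rw [← F.w.inv hb.1]; exact eq_inv_of_mul_eq_one_left h)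
    rw [← F.fr.om _ (F.w.mul_mem_T0 ha hb) h1] at hu
    exact hu.1
  refine ⟨F.n, isSyl_cj F.hS g, ⟨?_, ?_, ?_, ?_⟩, ?_⟩
  · intro z hz
    exact ⟨_, F.fr.sub (F.w.omZ_cj.1 hz), e' z⟩
  · intro t ht ht1
    rw [F.w.T0_cj, mem_cj] at ht
    have ht1' : g⁻¹ * t * g ≠ 1 := by
      intro h
      apply ht1
      rw [← e' t, h]
      group
    have h1 := F.fr.om _ ht ht1'
    ext z
    constructor
    · intro hz
      refine ⟨g⁻¹ * z * g, ?_, e' z⟩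
      rw [← h1]
      have h2 := F.w.conjZ z hz.1 g⁻¹
      have h3 := F.w.conjK z hz.1 g⁻¹
      rw [inv_inv] at h2 h3
      refine ⟨h2, ?_⟩
      rw [h3]
      have h4 := hz.2.cj g⁻¹
      rwa [inv_inv] at h4
    · rintro ⟨z, hz, rfl⟩
      rw [← h1] at hz
      refine ⟨F.w.conjZ z hz.1 g, ?_⟩
      show Ce t (K (g * z * g⁻¹))
      rw [F.w.conjK z hz.1]
      have h4 := hz.2.cj g
      rwa [e'] at h4
  · rintro _ ⟨u, hu, rfl⟩ _ ⟨v, hv, rfl⟩ hc _ ⟨x, hx, rfl⟩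
    have h1 := F.fr.one u hu v hv ((F.w.cm_conj_iff (hsub u hu) (hsub v hv) g).1 hc) x hx
    show Ce (g * u * g⁻¹ * (g * v * g⁻¹)) (K (g * x * g⁻¹))
    rw [F.w.conjK x (hsub x hx)]
    have h2 := h1.cj g
    have h3 : g * (u * v) * g⁻¹ = g * u * g⁻¹ * (g * v * g⁻¹) := by group
    rwa [h3] at h2
  · intro t ht ht1 z hz hzt
    rw [F.w.T0_cj, mem_cj] at ht
    have ht1' : g⁻¹ * t * g ≠ 1 := by
      intro h
      apply ht1
      rw [← e' t, h]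
      group
    apply F.fr.nnil _ ht ht1' _ (F.w.omZ_cj.1 hz)
    have h1 : g⁻¹ * z * g⁻¹⁻¹ ∈ cj g⁻¹ (oP 2 (centralizer {t})) := conj_mem_cj hzt
    have h2 := CompR.cj_oP_le g⁻¹ _ h1
    rwa [cj_centralizer, inv_inv] at h2
  · obtain ⟨a, ha, b, hb, c, hc, hab, hac, hbc⟩ := F.three
    refine ⟨g * a * g⁻¹, F.w.om_conj ha g, g * b * g⁻¹, F.w.om_conj hb g, g * c * g⁻¹, F.w.om_conj hc g, ?_, ?_, ?_⟩
    · intro h; exact hab (by rw [← e a, h, e])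
    · intro h; exact hac (by rw [← e a, h, e])
    · intro h; exact hbc (by rw [← e b, h, e])

/-- two other members -/
theorem exists_two {z : G} (_ : z ∈ OmZ Z K S) :
    ∃ u ∈ OmZ Z K S, ∃ v ∈ OmZ Z K S, z ≠ u ∧ z ≠ v ∧ u ≠ v := by
  obtain ⟨a, ha, b, hb, c, hc, hab, hac, hbc⟩ := F.three
  by_cases h1 : z = a
  · subst h1; exact ⟨b, hb, c, hc, hab, hac, hbc⟩
  by_cases h2 : z = b
  · subst h2; exact ⟨a, ha, c, hc, h1, hbc, hac⟩
  · exact ⟨a, ha, b, hb, h1, h2, hab⟩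

omit [Finite G] in
theorem mul_ne {u v : G} (hv : v ∈ OmZ Z K S) (h : u ≠ v) : u * v ≠ 1 := fun h1 =>
  h (by rw [← F.w.inv hv.1]; exact eq_inv_of_mul_eq_one_left h1)

theorem exists_t : ∃ t ∈ T0 Z K S, t ≠ 1 := by
  obtain ⟨a, ha, b, hb, -, -, hab, -, -⟩ := F.three
  exact ⟨a * b, F.w.mul_mem_T0 ha hb, F.mul_ne hb hab⟩

theorem kk_Z {u : G} (hu : u ∈ KK) : u ∈ Z := by
  obtain ⟨t, ht, ht1⟩ := F.exists_t
  rw [← F.fr.om t ht ht1] at hu
  exact hu.1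

theorem kk_ce {u : G} (hu : u ∈ KK) {t : G} (ht : t ∈ T0 Z K S) : Ce t (K u) := by
  by_cases h1 : t = 1
  · rw [h1]; exact Ce.one _
  · rw [← F.fr.om t ht h1] at hu
    exact hu.2

theorem mem_kk {u : G} (hu : u ∈ Z) {t : G} (ht : t ∈ T0 Z K S) (ht1 : t ≠ 1) (h : Ce t (K u)) : u ∈ KK := by
  rw [← F.fr.om t ht ht1]
  exact ⟨hu, h⟩

/-- `M₀` stabilises `KK` -/
theorem kk_conj {g z : G} (hg : g ∈ M0 Z K S) (hz : z ∈ KK) : g * z * g⁻¹ ∈ KK := by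
  obtain ⟨t, ht, ht1⟩ := F.exists_t
  have hzZ := F.kk_Z hz
  have h1 : g * t * g⁻¹ ∈ T0 Z K S := conj_mem_of_mem_normalizer hg ht
  have h2 : g * t * g⁻¹ ≠ 1 := by
    intro h
    apply ht1
    calc t = g⁻¹ * (g * t * g⁻¹) * g := by group
      _ = 1 := by rw [h]; group
  apply F.mem_kk (F.w.conjZ z hzZ g) h1 h2
  rw [F.w.conjK z hzZ]
  exact (F.kk_ce hz ht).cj g

theorem mem_M0_of_perm {g : G} (hg : ∀ z ∈ OmZ Z K S, g * z * g⁻¹ ∈ OmZ Z K S) : g ∈ M0 Z K S :=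
  mem_normalizer_of_conj_le fun _ ht => F.w.T0_nor hg ht

theorem S_le : S ≤ M0 Z K S := fun _ hs => F.mem_M0_of_perm fun _ hz => F.w.S_nor F.hS hs hz

/-- the stabiliser of `KK` is contained in `M₀` -/
theorem mem_M0_of_kk {g : G} (hg : ∀ z ∈ KK, g * z * g⁻¹ ∈ KK) : g ∈ M0 Z K S := by
  obtain ⟨D, -, hD2, hKD, -⟩ := F.w.exists_D F.hS
  set D' : Subgroup G := ⨆ u : OmZ Z K S, K u with hD'
  have hD'D : D' ≤ D := iSup_le fun u => hKD u u.2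
  have hD'2 : IsPGroup 2 D' := hD2.to_le hD'D
  have hD'B : D' ≤ Gp K KK := iSup_le fun u => le_Gp (F.fr.sub u.2)
  obtain ⟨P, hP, hDP⟩ := exists_isSyl hD'2 hD'B
  -- the conjugate of `D'`
  have h1 : cj g D' ≤ Gp K KK := by
    intro x hx
    rw [mem_cj] at hx
    have h2 : D' ≤ (Gp K KK).comap (MulAut.conj g).toMonoidHom := iSup_le fun u k hk => by
      show g * k * g⁻¹ ∈ Gp K KK
      have h3 : g * k * g⁻¹ ∈ K (g * u * g⁻¹) := by
        rw [F.w.conjK u u.2.1]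
        exact conj_mem_cj hk
      exact le_Gp (hg u (F.fr.sub u.2)) h3
    have h3 : g * (g⁻¹ * x * g) * g⁻¹ ∈ Gp K KK := h2 hx
    have e : g * (g⁻¹ * x * g) * g⁻¹ = x := by group
    rwa [e] at h3
  obtain ⟨b, hb, hb2⟩ := hP.exists_conj (isPGroup_cj hD'2) h1
  have hbM : b ∈ M0 Z K S := by
    apply mem_normalizer_of_conj_le
    intro t ht
    have h2 : Ce t (Gp K KK) := Gp_ce fun u hu => F.kk_ce hu ht
    have h3 := h2 b hb
    rw [← h3, mul_inv_cancel_right]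
    exact ht
  have hbg : b * g ∈ M0 Z K S := by
    apply F.mem_M0_of_perm
    intro z hz
    apply F.w.om_eq F.hS hP.two (fun u hu => (le_iSup (fun u : OmZ Z K S => K u) ⟨u, hu⟩).trans hDP)
      (F.w.conjZ z hz.1 _)
    rw [F.w.conjK z hz.1]
    intro x hx
    rw [mem_cj] at hx
    have h3 : (b * g)⁻¹ * x * (b * g) ∈ D' := (le_iSup (fun u : OmZ Z K S => K u) ⟨z, hz⟩) hx
    have h4 := hb2 _ (conj_mem_cj (g := g) h3)
    have e : b * (g * ((b * g)⁻¹ * x * (b * g)) * g⁻¹) * b⁻¹ = x := by group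
    rwa [e] at h4
  have : g = b⁻¹ * (b * g) := by group
  rw [this]
  exact mul_mem (inv_mem hbM) hbg

/-- `T₀` is TI -/
theorem ti {g t : G} (ht : t ∈ T0 Z K S) (ht1 : t ≠ 1) (h : g * t * g⁻¹ ∈ T0 Z K S) : g ∈ M0 Z K S := by
  apply F.mem_M0_of_kk
  intro z hz
  have hzZ := F.kk_Z hz
  have h2 : g * t * g⁻¹ ≠ 1 := by
    intro h
    apply ht1
    calc t = g⁻¹ * (g * t * g⁻¹) * g := by group
      _ = 1 := by rw [h]; group
  apply F.mem_kk (F.w.conjZ z hzZ g) h h2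
  rw [F.w.conjK z hzZ]
  exact (F.kk_ce hz ht).cj g

theorem cent_le {g t : G} (ht : t ∈ T0 Z K S) (ht1 : t ≠ 1) (h : g * t = t * g) : g ∈ M0 Z K S := by
  apply F.ti ht ht1
  rw [h, mul_inv_cancel_right]
  exact ht

theorem exists_c {u : G} (hu : u ∈ KK) : ∃ c ∈ M0 Z K S, c * u * c⁻¹ ∈ OmZ Z K S := by
  obtain ⟨t, ht, ht1⟩ := F.exists_t
  rw [← F.fr.om t ht ht1] at hu
  obtain ⟨c, hc, hcu⟩ := F.w.om_into F.hS (fun z hz => F.w.T0_ce F.hS ht hz) hu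
  exact ⟨c, F.cent_le ht ht1 hc, hcu⟩

/-- `T₀ ∩ Z = ∅` -/
theorem not_mem {t : G} (ht : t ∈ T0 Z K S) : t ∉ Z := by
  intro hZ
  have ht1 := F.w.ne t hZ
  have h1 : t ∈ Om Z K t := ⟨hZ, F.w.ce_self hZ⟩
  obtain ⟨z, hz, -⟩ := F.three
  have hzt := F.w.om_mem F.hS (F.w.T0_le ht) hz
  -- `t ∈ KK` commutes with all of `KK`
  have h2 : z ∈ oP 2 (centralizer {t}) := by
    by_cases hne : z = t
    · subst hne
      exact self_mem_oP (F.w.sq z hZ)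
    · exact F.n.nil t hZ z hz.1 (F.w.csymm z hz.1 t hZ (F.w.T0_ce F.hS ht hz) hne).symm
  exact F.fr.nnil t ht ht1 z hz h2

/-- `O₂(C(z)) ≤ M₀` for `z ∈ OmZ S` -/
theorem oP_le_M0 {z : G} (hz : z ∈ OmZ Z K S) : oP 2 (centralizer {z}) ≤ M0 Z K S := by
  obtain ⟨D, hDS, hD2, hKD, -⟩ := F.w.exists_D F.hS
  set D' : Subgroup G := ⨆ u : OmZ Z K S, K u with hD'
  have hD'D : D' ≤ D := iSup_le fun u => hKD u u.2
  have hD'2 : IsPGroup 2 D' := hD2.to_le hD'D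
  have hD'C : D' ≤ centralizer {z} := iSup_le fun u k hk => by
    rw [mem_centralizer_singleton_iff]
    by_cases h : (u : G) = z
    · have hk' : k ∈ K z := by rw [← h]; exact hk
      exact (F.w.ce_self hz.1 k hk').symm
    · exact F.w.om_cm u.2 hz h F.hS.two k hk z (F.w.mem z hz.1)
  have h1 : IsPGroup 2 (D' ⊔ oP 2 (centralizer {z}) : Subgroup G) :=
    OneBasic.isPGroup_sup_of_normalizes hD'2 (isPGroup_oP 2 _) (hD'C.trans (le_normalizer_oP 2 _))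
  intro p hp
  apply F.mem_M0_of_perm
  intro u hu
  exact F.w.om_perm F.hS h1 (fun v hv => (le_iSup (fun u : OmZ Z K S => K u) ⟨v, hv⟩).trans le_sup_left)
    ((le_sup_right : oP 2 (centralizer {z}) ≤ _) hp) hu

theorem om_mem_oP {z u : G} (hz : z ∈ OmZ Z K S) (hu : u ∈ OmZ Z K S) : u ∈ oP 2 (centralizer {z}) := by
  by_cases h : z = u
  · subst h; exact self_mem_oP (F.w.sq z hz.1)
  · exact F.n.nil z hz.1 u hu.1 (F.w.om_cm hz hu h F.hS.two)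

theorem T0_le_oP {z : G} (hz : z ∈ OmZ Z K S) : T0 Z K S ≤ oP 2 (centralizer {z}) := by
  conv_lhs => unfold T0
  rw [closure_le]
  rintro _ ⟨u, hu, v, hv, rfl⟩
  exact mul_mem (F.om_mem_oP hz hu) (F.om_mem_oP hz hv)

/-- Step (2): `C(z) ≤ M₀` for `z ∈ OmZ S` -/
theorem cent_om (j : JArg Z K) {z g : G} (hz : z ∈ OmZ Z K S) (hg : g * z = z * g) : g ∈ M0 Z K S := by
  by_contra hgM
  have F' := F.conj g
  set S' := cj g S with hS'
  set KK' := (fun z => g * z * g⁻¹) '' KK with hKK'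
  have hzg : g * z * g⁻¹ = z := by rw [hg, mul_inv_cancel_right]
  have hz' : z ∈ OmZ Z K S' := by
    have := F.w.om_conj hz g
    rwa [hzg] at this
  -- `T₀ ∩ T₁ = 1`
  have hti : ∀ t ∈ T0 Z K S, t ∈ T0 Z K S' → t = 1 := by
    intro t ht ht'
    by_contra ht1
    rw [hS', F.w.T0_cj, mem_cj] at ht'
    apply hgM
    have e : g * (g⁻¹ * t * g) * g⁻¹ = t := by group
    refine F.ti ht' ?_ (by rw [e]; exact ht)
    intro h
    apply ht1
    rw [← e, h]; group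
  -- they commute
  have hcomm : ∀ t ∈ T0 Z K S, ∀ s ∈ T0 Z K S', t * s = s * t := by
    intro t ht s hs
    have h1 : s ∈ M0 Z K S := F.oP_le_M0 hz (F'.T0_le_oP hz' hs)
    have h2 : t ∈ M0 Z K S' := F'.oP_le_M0 hz' (F.T0_le_oP hz ht)
    have h3 : t * s * t⁻¹ * s⁻¹ ∈ T0 Z K S := by
      have : t * s * t⁻¹ * s⁻¹ = t * (s * t⁻¹ * s⁻¹) := by group
      rw [this]
      exact mul_mem ht (conj_mem_of_mem_normalizer h1 (inv_mem ht))
    have h4 : t * s * t⁻¹ * s⁻¹ ∈ T0 Z K S' :=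
      mul_mem (conj_mem_of_mem_normalizer h2 hs) (inv_mem hs)
    have h5 := hti _ h3 h4
    calc t * s = (t * s * t⁻¹ * s⁻¹) * (s * t) := by group
      _ = s * t := by rw [h5, one_mul]
  -- (A)
  have hA : ∀ x ∈ OmZ Z K S, z ≠ x → x ∉ KK' := by
    intro x hx hzx hxK
    have hzxT := F.w.mul_mem_T0 hz hx
    have hzx1 := F.mul_ne hx hzx
    have hCzx := F.w.om_cm hz hx hzx F.hS.two
    have h1 := F'.fr.one x hxK z (F'.fr.sub hz') hCzx.symm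
    have h2 : x ∈ OmZ Z K S' := by
      apply F.w.om_of_cm F'.hS hx.1
      intro y hy hyx
      by_cases hyz : y = z
      · rw [hyz]; exact hCzx
      · apply F.w.csymm y hy.1 x hx.1 _ hyx
        have h3 : Ce z (K y) := fun k hk => (F.w.om_cm hz' hy (Ne.symm hyz) F'.hS.two) z (F.w.mem z hz.1) k hk
        have h4 := (h1 y (F'.fr.sub hy)).mul h3
        have h5 : x * z * z = x := by rw [mul_assoc, F.w.sq z hz.1, mul_one]
        rwa [h5] at h4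
    exact hzx1 (hti _ hzxT (F.w.mul_mem_T0 hz' h2))
  obtain ⟨x, hx, y, hy, hzx, hzy, hxy⟩ := F.exists_two hz
  obtain ⟨a, ha, b, hb, hza, hzb, hab⟩ := F'.exists_two hz'
  have hxZ : x ∉ T0 Z K S' := fun h1 => F'.not_mem h1 hx.1
  -- `x` commutes with `T₁`
  have hxt : ∀ t ∈ T0 Z K S', t * x = x * t := by
    intro t ht
    have h1 := hcomm _ (F.w.mul_mem_T0 hz hx) t ht
    have h2 : t * z = z * t := F.w.T0_ce F'.hS ht hz' z (F.w.mem z hz.1)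
    have h3 : x = z * (z * x) := by rw [← mul_assoc, F.w.sq z hz.1, one_mul]
    calc t * x = t * (z * (z * x)) := by rw [← h3]
      _ = (t * z) * (z * x) := by group
      _ = z * (t * (z * x)) := by rw [h2]; group
      _ = z * (z * x * t) := by rw [h1]
      _ = z * (z * x) * t := by group
      _ = x * t := by rw [← h3]
  rcases j x hx.1 (T0 Z K S') (fun a ha b hb => F.w.T0_comm F'.hS ha hb)
    (fun a ha => F.w.TS_sq F'.hS (F.w.T0_le ha)) hxZ hxt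
    (fun t ht ht1 r _ hc a ha => conj_mem_of_mem_normalizer (F'.cent_le ht ht1 hc.symm) ha)
    ⟨z * a, F.w.mul_mem_T0 hz' ha, z * b, F.w.mul_mem_T0 hz' hb, F'.mul_ne ha hza, F'.mul_ne hb hzb,
      fun h1 => hab (mul_left_cancel h1)⟩ with ⟨t, ht, ht1, h1⟩ | ⟨q, hq, hqx, hq1⟩
  · exact hA x hx hzx (F'.mem_kk hx.1 ht ht1 h1)
  · exact hA y hy hzy (F'.mem_kk hy.1 hq hq1 fun k hk => F.w.om_cm hx hy hxy F.hS.two q hqx k hk)

/-- Step (2): `C(z) ≤ M₀` for `z ∈ KK` -/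
theorem cent_kk (j : JArg Z K) {z g : G} (hz : z ∈ KK) (hg : g * z = z * g) : g ∈ M0 Z K S := by
  obtain ⟨c, hc, hcz⟩ := F.exists_c hz
  have h1 : c * g * c⁻¹ ∈ M0 Z K S := by
    apply F.cent_om j hcz
    calc c * g * c⁻¹ * (c * z * c⁻¹) = c * (g * z) * c⁻¹ := by group
      _ = c * (z * g) * c⁻¹ := by rw [hg]
      _ = c * z * c⁻¹ * (c * g * c⁻¹) := by group
  have : g = c⁻¹ * (c * g * c⁻¹) * c := by group
  rw [this]
  exact mul_mem (mul_mem (inv_mem hc) h1) hc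

theorem isSyl_M0 : IsSyl S (M0 Z K S) := F.hS.mono F.S_le le_top

/-- a point with `K y ≤ M₀` lies in `KK` -/
theorem kk_of_le {y : G} (hy : y ∈ Z) (hle : K y ≤ M0 Z K S) : y ∈ KK := by
  obtain ⟨n, hn, hn2⟩ := F.isSyl_M0.exists_conj (F.w.two hy) hle
  have h2 : n * y * n⁻¹ ∈ OmZ Z K S := by
    refine ⟨F.w.conjZ y hy n, ?_⟩
    rw [F.w.conjK y hy]
    intro x hx
    rw [mem_cj] at hx
    have := hn2 _ hx
    have e : n * (n⁻¹ * x * n) * n⁻¹ = x := by group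
    rwa [e] at this
  have h3 := F.kk_conj (inv_mem hn) (F.fr.sub h2)
  have e : n⁻¹ * (n * y * n⁻¹) * n⁻¹⁻¹ = y := by group
  rwa [e] at h3

/-- every point has a C-partner -/
theorem exists_cm {x : G} (hx : x ∈ Z) : ∃ y ∈ Z, Cm (K x) (K y) := by
  obtain ⟨n, -, hn⟩ := F.hS.exists_conj (F.w.two hx) le_top
  have h1 : n * x * n⁻¹ ∈ OmZ Z K S := by
    refine ⟨F.w.conjZ x hx n, ?_⟩
    rw [F.w.conjK x hx]
    intro y hy
    rw [mem_cj] at hy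
    have := hn _ hy
    have e : n * (n⁻¹ * y * n) * n⁻¹ = y := by group
    rwa [e] at this
  obtain ⟨u, hu, -, -, hne, -, -⟩ := F.exists_two h1
  have h2 := F.w.cm_conj h1.1 hu.1 n⁻¹ (F.w.om_cm h1 hu hne F.hS.two)
  have e : n⁻¹ * (n * x * n⁻¹) * n⁻¹⁻¹ = x := by group
  rw [e] at h2
  exact ⟨_, F.w.conjZ u hu.1 n⁻¹, h2⟩

/-- an element of `Z ∩ S` lies in `KK` -/
theorem mem_kk_of_S (j : JArg Z K) (sw : SwapI Z K) {x : G} (hx : x ∈ Z) (hxS : x ∈ S) : x ∈ KK := by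
  by_contra hno
  have hce : ∀ t ∈ T0 Z K S, t ≠ 1 → ¬ Ce t (K x) := fun t ht ht1 h => hno (F.mem_kk hx ht ht1 h)
  -- `x` fixes all `z`
  have hfix : ∀ z ∈ OmZ Z K S, x * z = z * x := by
    intro z hz
    by_contra h
    have h1 : x * z * x⁻¹ ∈ OmZ Z K S := F.w.S_nor F.hS hxS hz
    have h2 : z ≠ x * z * x⁻¹ := by
      intro h3
      apply h
      calc x * z = x * z * x⁻¹ * x := by group
        _ = z * x := by rw [← h3]
    rcases sw x hx z hz.1 (F.w.om_cm hz h1 h2 F.hS.two) with h3 | h3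
    · exact hce _ (F.w.mul_mem_T0 hz h1) (F.mul_ne h1 h2) h3
    · exact F.not_mem (F.w.mul_mem_T0 hz h1) h3
  have hxt : ∀ t ∈ T0 Z K S, t * x = x * t := by
    intro t ht
    have h1 : TS Z K S ≤ centralizer {x} := by
      unfold TS
      rw [closure_le]
      intro z hz
      exact mem_centralizer_singleton_iff.2 (hfix z hz).symm
    exact mem_centralizer_singleton_iff.1 (h1 (F.w.T0_le ht))
  obtain ⟨a, ha, b, hb, c, hc, hab, hac, hbc⟩ := F.three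
  rcases j x hx (T0 Z K S) (fun a ha b hb => F.w.T0_comm F.hS ha hb) (fun a ha => F.w.TS_sq F.hS (F.w.T0_le ha))
    (fun h1 => F.not_mem h1 hx) hxt
    (fun t ht ht1 r _ hc a ha => conj_mem_of_mem_normalizer (F.cent_le ht ht1 hc.symm) ha)
    ⟨a * b, F.w.mul_mem_T0 ha hb, a * c, F.w.mul_mem_T0 ha hc, F.mul_ne hb hab, F.mul_ne hc hac,
      fun h1 => hbc (mul_left_cancel h1)⟩ with ⟨t, ht, ht1, h1⟩ | ⟨q, hq, hqx, hq1⟩
  · exact hce t ht ht1 h1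
  · obtain ⟨y, hy, hxy⟩ := F.exists_cm hx
    have h2 : y ∈ KK := F.kk_of_le hy fun k hk => F.cent_le hq hq1 (hxy q hqx k hk).symm
    exact hno (F.kk_of_le hx fun k hk => F.cent_kk j h2 (hxy k hk y (F.w.mem y hy)))

/-- Step (3): `Z ∩ M₀ = KK` -/
theorem mem_kk_of_M0 (j : JArg Z K) (sw : SwapI Z K) {x : G} (hx : x ∈ Z) (hxM : x ∈ M0 Z K S) : x ∈ KK := by
  have h1 : zpowers x ≤ M0 Z K S := by rwa [zpowers_le]
  obtain ⟨n, hn, hn2⟩ := F.isSyl_M0.exists_conj (isPGroup_zpowers_inv (F.w.sq x hx)) h1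
  have h2 := F.mem_kk_of_S j sw (F.w.conjZ x hx n) (hn2 x (mem_zpowers x))
  have h3 := F.kk_conj (inv_mem hn) h2
  have e : n⁻¹ * (n * x * n⁻¹) * n⁻¹⁻¹ = x := by group
  rwa [e] at h3

/-- Step (3'): an element conjugating an element of `KK` into `M₀` lies in `M₀` -/
theorem mem_M0 (j : JArg Z K) (sw : SwapI Z K) {z g : G} (hz : z ∈ KK) (h : g * z * g⁻¹ ∈ M0 Z K S) : g ∈ M0 Z K S := by
  have h1 := F.mem_kk_of_M0 j sw (F.w.conjZ z (F.kk_Z hz) g) h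
  -- move both into `OmZ S`
  obtain ⟨c, hc, hcz⟩ := F.exists_c hz
  obtain ⟨d, hd, hdz⟩ := F.exists_c h1
  -- `g' = d g c⁻¹` maps `c z c⁻¹` to `d (g z g⁻¹) d⁻¹`
  set z1 := c * z * c⁻¹ with hz1
  set z2 := d * (g * z * g⁻¹) * d⁻¹ with hz2
  set g' := d * g * c⁻¹ with hg'
  have h2 : g' * z1 * g'⁻¹ = z2 := by rw [hg', hz1, hz2]; group
  suffices hs : g' ∈ M0 Z K S by
    have : g = d⁻¹ * g' * c := by rw [hg']; group
    rw [this]
    exact mul_mem (mul_mem (inv_mem hd) hs) hc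
  -- Sylow's theorem in `C(z2)`
  set D' : Subgroup G := ⨆ u : OmZ Z K S, K u with hD'
  obtain ⟨D, -, hD2, hKD, -⟩ := F.w.exists_D F.hS
  have hD'D : D' ≤ D := iSup_le fun u => hKD u u.2
  have hD'2 : IsPGroup 2 D' := hD2.to_le hD'D
  have hD'C : ∀ z ∈ OmZ Z K S, D' ≤ centralizer {z} := fun z hz => iSup_le fun u k hk => by
    rw [mem_centralizer_singleton_iff]
    by_cases h : (u : G) = z
    · have hk' : k ∈ K z := by rw [← h]; exact hk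
      exact (F.w.ce_self hz.1 k hk').symm
    · exact F.w.om_cm u.2 hz h F.hS.two k hk z (F.w.mem z hz.1)
  obtain ⟨P, hP, hDP⟩ := exists_isSyl hD'2 (hD'C z2 hdz)
  have h3 : cj g' D' ≤ centralizer {z2} := by
    have h4 := cj_mono g' (hD'C z1 hcz)
    rwa [cj_centralizer, h2] at h4
  obtain ⟨b, hb, hb2⟩ := hP.exists_conj (isPGroup_cj hD'2) h3
  have hbM : b ∈ M0 Z K S := F.cent_om j hdz (mem_centralizer_singleton_iff.1 hb)
  have hbg : b * g' ∈ M0 Z K S := by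
    apply F.mem_M0_of_perm
    intro z hz
    apply F.w.om_eq F.hS hP.two (fun u hu => (le_iSup (fun u : OmZ Z K S => K u) ⟨u, hu⟩).trans hDP)
      (F.w.conjZ z hz.1 _)
    rw [F.w.conjK z hz.1]
    intro x hx
    rw [mem_cj] at hx
    have h3 : (b * g')⁻¹ * x * (b * g') ∈ D' := (le_iSup (fun u : OmZ Z K S => K u) ⟨z, hz⟩) hx
    have h4 := hb2 _ (conj_mem_cj (g := g') h3)
    have e : b * (g' * ((b * g')⁻¹ * x * (b * g')) * g'⁻¹) * b⁻¹ = x := by group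
    rwa [e] at h4
  have : g' = b⁻¹ * (b * g') := by group
  rw [this]
  exact mul_mem (inv_mem hbM) hbg

end Fs

end Cfsg.Agent.Cit.Nil.ANTwo
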